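import Cfsg.Agent.Lib.CyclicTI.TIKernel
import Cfsg.Prelude.Def_Transfer

/-!
# The kernel of order `[N:H] + 1`, and the three alternatives for a TI kernel
-/

set_option autoImplicit false

open Cfsg CfsgLib.CharTheory CfsgLib.Frobenius
open scoped commutatorElement

namespace CfsgLib.CyclicTI

namespace Frob

variable {N : Type*} [Group N] [Fintype N] {H : Subgroup N} [H.Normal]

/-- When `|H| = [N:H] + 1` there is one character in the set. -/
theorem card_charSet_eq_one (hC : KernelCond H) (he : Nat.card H = H.index + 1) :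
    Nat.card (charSet H) = 1 := by
  classical
  obtain ⟨T, hT⟩ : ∃ T : Finset (N → ℂ), (↑T : Set (N → ℂ)) = inducedIrrAbove H ⊥ :=
    ⟨(inducedIrrAbove_finite H ⊥).toFinset, Set.Finite.coe_toFinset _⟩
  have hsum := sum_sq hC ⊥ T hT
  rw [Subgroup.relIndex_bot_left, he, Nat.add_sub_cancel] at hsum
  have he0 : 0 < H.index := Nat.pos_of_ne_zero Subgroup.index_ne_zero_of_finite
  have hge : ∀ φ ∈ T, H.index ^ 2 ≤ deg φ ^ 2 := fun φ hφ => by
    have hm : φ ∈ inducedIrrAbove H ⊥ := hT ▸ Finset.mem_coe.2 hφ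
    exact Nat.pow_le_pow_left (Nat.le_of_dvd (deg_pos (irr_of_mem hC hm)) (index_dvd_deg hm)) 2
  have h1 := Finset.card_nsmul_le_sum T _ _ hge
  rw [hsum, smul_eq_mul, sq] at h1
  have h2 : T.card ≤ 1 := Nat.le_of_mul_le_mul_right (by rw [one_mul]; exact h1) (Nat.mul_pos he0 he0)
  have h3 : T.card ≠ 0 := fun h => by
    rw [Finset.card_eq_zero.1 h, Finset.sum_empty] at hsum
    exact (Nat.mul_pos he0 he0).ne hsum
  rw [charSet_eq hC, ← hT]
  simp only [Nat.card_eq_fintype_card, Finset.coe_sort_coe, Fintype.card_coe]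
  omega

omit [H.Normal] in
theorem conj_of_small (hC : KernelCond H) [H.Normal] (he : Nat.card H = H.index + 1) {a b : N}
    (ha : a ∈ H) (ha1 : a ≠ 1) (hb : b ∈ H) (hb1 : b ≠ 1) : IsConj a b := by
  classical
  by_contra hab
  set ca := Finset.univ.filter (IsConj a)
  set cb := Finset.univ.filter (IsConj b)
  have hca : ∀ x : N, x ∈ H → x ≠ 1 → H.index ≤ (Finset.univ.filter (IsConj x)).card := by
    intro x hx hx1
    rw [← Fintype.card_subtype, ← Nat.card_eq_fintype_card, card_isConj]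
    exact Nat.le_of_dvd (Nat.pos_of_ne_zero Subgroup.index_ne_zero_of_finite)
      (Subgroup.index_dvd_of_le (hC x hx hx1))
  have hd : Disjoint ca cb := Finset.disjoint_left.2 fun x h1 h2 =>
    hab ((Finset.mem_filter.1 h1).2.trans (Finset.mem_filter.1 h2).2.symm)
  have hsub : ca ∪ cb ⊆ (Finset.univ.filter fun x => x ∈ H).erase 1 := by
    intro x hx
    have key : ∀ y : N, y ∈ H → y ≠ 1 → IsConj y x → x ∈ H ∧ x ≠ 1 := fun y hy hy1 h => by
      obtain ⟨t, rfl⟩ := isConj_iff.1 h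
      exact ⟨‹H.Normal›.conj_mem y hy t, fun h => hy1 (conj_eq_one_iff.1 h)⟩
    rw [Finset.mem_erase, Finset.mem_filter]
    rcases Finset.mem_union.1 hx with h | h
    · obtain ⟨h1, h2⟩ := key a ha ha1 (Finset.mem_filter.1 h).2
      exact ⟨h2, Finset.mem_univ _, h1⟩
    · obtain ⟨h1, h2⟩ := key b hb hb1 (Finset.mem_filter.1 h).2
      exact ⟨h2, Finset.mem_univ _, h1⟩
  have h := Finset.card_le_card hsub
  rw [Finset.card_union_of_disjoint hd, Finset.card_erase_of_mem (by simp),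
    show (Finset.univ.filter fun x => x ∈ H).card = Nat.card H by
      rw [Nat.card_eq_fintype_card, Fintype.card_subtype], he, Nat.add_sub_cancel] at h
  have h5 : H.index ≤ ca.card := hca a ha ha1
  have h6 : H.index ≤ cb.card := hca b hb hb1
  have : 0 < H.index := Nat.pos_of_ne_zero Subgroup.index_ne_zero_of_finite
  omega

/-- When `|H| = [N:H] + 1` the kernel is elementary abelian. -/
theorem elementary_of_small (hC : KernelCond H) (hnil : Group.IsNilpotent H)
    (he : Nat.card H = H.index + 1) :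
    ∃ p : ℕ, p.Prime ∧ IsMulCommutative H ∧ ∀ a ∈ H, a ^ p = 1 := by
  have he0 : 0 < H.index := Nat.pos_of_ne_zero Subgroup.index_ne_zero_of_finite
  obtain ⟨p, hp, hpd⟩ := Nat.exists_prime_and_dvd (show Nat.card H ≠ 1 by omega)
  have : Fact p.Prime := ⟨hp⟩
  obtain ⟨⟨x, hx⟩, hxo⟩ := exists_prime_orderOf_dvd_card' p hpd
  rw [Subgroup.orderOf_mk] at hxo
  have hx1 : x ≠ 1 := fun h => hp.one_lt.ne (by rw [← hxo, h, orderOf_one])
  refine ⟨p, hp, ?_, fun a ha => ?_⟩
  · have hab : ⁅H, H⁆ = ⊥ := by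
      by_contra hne
      obtain ⟨y, hy, hy1⟩ := (Subgroup.bot_or_exists_ne_one _).resolve_left hne
      have hle : H ≤ ⁅H, H⁆ := fun z hz => by
        by_cases hz1 : z = 1
        · rw [hz1]; exact Subgroup.one_mem _
        obtain ⟨t, rfl⟩ := isConj_iff.1
          (conj_of_small hC he (Subgroup.commutator_le_self H hy) hy1 hz hz1)
        exact (inferInstance : (⁅H, H⁆ : Subgroup N).Normal).conj_mem y hy t
      have hbot := le_of_commutator_sup H ⊥ hnil bot_le (hle.trans le_sup_left)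
      rw [le_bot_iff.1 hbot] at hx
      exact hx1 (Subgroup.mem_bot.1 hx)
    refine ⟨⟨fun a b => Subtype.ext ?_⟩⟩
    have := Subgroup.commutator_mem_commutator a.2 b.2
    rw [hab, Subgroup.mem_bot, commutatorElement_eq_one_iff_mul_comm] at this
    exact this
  · by_cases ha1 : a = 1
    · rw [ha1, one_pow]
    obtain ⟨t, rfl⟩ := isConj_iff.1 (conj_of_small hC he hx hx1 ha ha1)
    rw [conj_pow, show x ^ p = 1 from hxo ▸ pow_orderOf_eq_one x, mul_one, mul_inv_cancel]

end Frob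

namespace TIKernel

variable {G : Type*} [Group G] [Fintype G]

/-- The alternatives for a nilpotent TI kernel. -/
theorem alternatives (K L : Subgroup G) [Fintype L] [(K.subgroupOf L).Normal] (hKL : K ≤ L)
    (hK1 : K ≠ ⊥) (hlt : K ≠ L) (hnil : Group.IsNilpotent (K.subgroupOf L))
    (hKC : Frob.KernelCond (K.subgroupOf L))
    (hTI : IsTISubset (K : Set G)) (hN : Subgroup.normalizer (K : Set G) = L) :
    (Nat.card (Frob.charSet (K.subgroupOf L)) = 1 ∧ Nat.card K = (K.subgroupOf L).index + 1 ∧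
        ∃ p : ℕ, p.Prime ∧ IsElementaryAbelian p K) ∨
      (IsPGroup 2 K ∧ Odd (K.subgroupOf L).index ∧ 1 < (K.subgroupOf L).index ∧
        (⁅K.subgroupOf L, K.subgroupOf L⁆).relIndex (K.subgroupOf L)
          ≤ 4 * (K.subgroupOf L).index ^ 2 + 1) ∨
      IsCoherent (Frob.charSet (K.subgroupOf L)) ({1}ᶜ : Set L) (fun α : L → ℂ => indFun L α) := by
  set M := K.subgroupOf L with hM
  have hcard : Nat.card M = Nat.card K := Nat.card_congr (Subgroup.subgroupOfEquivOfLe hKL).toEquiv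
  have hM1 : M ≠ ⊥ := fun h => hK1 (by
    rw [hM, Subgroup.subgroupOf_eq_bot] at h
    exact disjoint_self.1 (h.mono_right hKL))
  have he1 : 1 < M.index := by
    have h0 : M.index ≠ 0 := Subgroup.index_ne_zero_of_finite
    have h1 : M.index ≠ 1 := fun h => hlt (le_antisymm hKL
      (Subgroup.subgroupOf_eq_top.1 (Subgroup.index_eq_one.1 h)))
    omega
  by_cases he : Nat.card M = M.index + 1
  · refine Or.inl ⟨Frob.card_charSet_eq_one hKC he, hcard ▸ he, ?_⟩
    obtain ⟨p, hp, hcomm, hexp⟩ := Frob.elementary_of_small hKC hnil he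
    refine ⟨p, hp, ⟨⟨fun a b => Subtype.ext ?_⟩⟩, fun a ha => ?_⟩
    · exact congrArg (fun z : M => ((z : L) : G))
        (hcomm.is_comm.comm ⟨⟨a, hKL a.2⟩, a.2⟩ ⟨⟨b, hKL b.2⟩, b.2⟩)
    · exact congrArg (fun z : L => (z : G)) (hexp ⟨a, hKL ha⟩ ha)
  obtain ⟨hτ, hτ1⟩ := TIInd.isometry K L hTI hN.le (S := Frob.charSet M) (Frob.charSet_eq hKC).le
  rcases Frob.coherent_or_critical hKC hM1 hnil he hτ hτ1 with h | ⟨p, hp, ⟨m, hm⟩, hnc, hsmall⟩
  · exact Or.inr (Or.inr h)
  have hodd : Odd M.index := Nat.not_even_iff_odd.1 fun h => hnc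
    ⟨⟨fun a b => Subtype.ext (Frob.commute_of_even hKC h a.2 b.2)⟩⟩
  rcases eq_or_ne p 2 with rfl | hp2
  · exact Or.inr (Or.inl ⟨IsPGroup.of_card (hcard ▸ hm), hodd, he1, hsmall⟩)
  · refine Or.inr (Or.inr (coherent_odd K L hKL hK1 hlt ?_ hnil hKC hTI hN))
    rw [← M.card_mul_index, Nat.odd_mul, hm]
    exact ⟨(hp.odd_of_ne_two hp2).pow, hodd⟩

end TIKernel

end CfsgLib.CyclicTI
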